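import Groth.Agent.Lib.ModelFibre.LenEuler
import Groth.Agent.Lib.ModelFibre.EulerAlg
import Groth.Agent.Lib.ModelFibre.FlatSeq
import Groth.Agent.Lib.ZarCoh.FlatBC.Equiv
import Groth.Agent.S0002

/-!
# Euler characteristics by lengths in degrees `≤ d`
-/

set_option autoImplicit false
set_option linter.style.haveILetI false

universe u

open CategoryTheory Limits AlgebraicGeometry IsLocalRing

namespace Groth.Agent.H21.EulerDvd

open Groth.Agent.Lib Groth.Agent.Lib.ModelFibre

noncomputable section

variable (R : Type u) [CommRing R] [IsDomain R] [IsDiscreteValuationRing R]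
  (X : Over (Spec (CommRingCat.of R))) (d : ℕ)

/-- Finite lengths, and no cohomology above degree `d`. -/
def FinLen (F : X.left.Modules) : Prop :=
  (∀ i, Module.length R (Coh.HH X.left F i) ≠ ⊤) ∧ ∀ i, d < i → Subsingleton (Coh.HH X.left F i)

/-- The Euler characteristic by lengths in degrees `≤ d`. -/
def chiLen (F : X.left.Modules) : ℤ :=
  ∑ i ∈ Finset.range (d + 1), (-1 : ℤ) ^ i * (Models.lengthH R X F i : ℤ)

variable {R X d}

theorem FinLen.of_iso {F G : X.left.Modules} (e : F ≅ G) (h : FinLen R X d F) :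
    FinLen R X d G ∧ chiLen R X d G = chiLen R X d F := by
  refine ⟨⟨fun i => ?_, fun i hi => ?_⟩, ?_⟩
  · rw [← (Curves.LES.isoK R e i).length_eq]; exact h.1 i
  · haveI := h.2 i hi
    exact (Curves.LES.isoK R e i).symm.toEquiv.subsingleton
  · refine Finset.sum_congr rfl fun i _ => ?_
    unfold Models.lengthH
    rw [(Curves.LES.isoK R e i).length_eq]

theorem finLen_zero {F : X.left.Modules} (h : 𝟙 F = 0) :
    FinLen R X d F ∧ chiLen R X d F = 0 := by
  have hs : ∀ n, Module.length R (Coh.HH X.left F n) = 0 := fun n => by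
    rw [Module.length_eq_zero_iff]
    exact LenEuler.subsingleton_of_id_eq_zero h n
  refine ⟨⟨fun i => by rw [hs]; exact ENat.zero_ne_top,
    fun i _ => LenEuler.subsingleton_of_id_eq_zero h i⟩, Finset.sum_eq_zero fun i _ => ?_⟩
  unfold Models.lengthH
  rw [hs]
  simp

/-- Alternating sums of `(δ (i-1) + r i) + (r' i + δ i) - (r i + r' i)`. -/
theorem sum_alt_telescope (a b c δ : ℕ → ℤ) (h0 : b 0 - a 0 - c 0 = -δ 0)
    (hs : ∀ n, b (n + 1) - a (n + 1) - c (n + 1) = -δ n - δ (n + 1)) (n : ℕ) :
    ∑ i ∈ Finset.range (n + 1), (-1 : ℤ) ^ i * (b i - a i - c i) = -((-1 : ℤ) ^ n * δ n) := by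
  induction n with
  | zero => simp only [Finset.sum_range_succ, Finset.sum_range_zero, pow_zero, one_mul, zero_add, h0]
  | succ n ih => rw [Finset.sum_range_succ, ih, hs, pow_succ]; ring

/-- Additivity in short exact sequences. -/
theorem FinLen.of_shortExact {S : ShortComplex X.left.Modules} (hS : S.ShortExact)
    (h₁ : FinLen R X d S.X₁) (h₃ : FinLen R X d S.X₃) :
    FinLen R X d S.X₂ ∧ chiLen R X d S.X₂ = chiLen R X d S.X₁ + chiLen R X d S.X₃ := by
  haveI := hS.mono_f
  let rf : ℕ → ℕ∞ := fun i => Module.length R (LinearMap.range (Curves.LES.mapK R S.f i))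
  let rg : ℕ → ℕ∞ := fun i => Module.length R (LinearMap.range (Curves.LES.mapK R S.g i))
  let rd : ℕ → ℕ∞ := fun i => Module.length R (LinearMap.range (Curves.LES.δK R hS i (i + 1) rfl))
  have hB : ∀ i, Module.length R (Coh.HH X.left S.X₂ i) = rf i + rg i := fun i =>
    LenEuler.length_eq_range_add (Curves.LES.exactK₂ R hS i)
  have hC : ∀ i, Module.length R (Coh.HH X.left S.X₃ i) = rg i + rd i := fun i =>
    LenEuler.length_eq_range_add (Curves.LES.exactK₃ R hS i (i + 1) rfl)
  have hA : ∀ i, Module.length R (Coh.HH X.left S.X₁ (i + 1)) = rd i + rf (i + 1) := fun i =>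
    LenEuler.length_eq_range_add (Curves.LES.exactK₁ R hS i (i + 1) rfl)
  have hA0 : Module.length R (Coh.HH X.left S.X₁ 0) = rf 0 :=
    (LinearEquiv.ofInjective _ (Curves.LES.mapK_injective_of_mono R S.f)).length_eq
  have hrg : ∀ i, rg i ≠ ⊤ ∧ rd i ≠ ⊤ := fun i => WithTop.add_ne_top.mp (hC i ▸ h₃.1 i)
  have hrf : ∀ i, rf i ≠ ⊤ := fun i => by
    match i with
    | 0 => exact hA0 ▸ h₁.1 0
    | i + 1 => exact (WithTop.add_ne_top.mp (hA i ▸ h₁.1 (i + 1))).2
  have hfin : FinLen R X d S.X₂ := by
    refine ⟨fun i => ?_, fun i hi => ?_⟩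
    · rw [hB i]; exact WithTop.add_ne_top.mpr ⟨hrf i, (hrg i).1⟩
    · haveI := h₁.2 i hi
      haveI := h₃.2 i hi
      refine subsingleton_of_forall_eq 0 fun y => ?_
      obtain ⟨z, rfl⟩ := (Curves.LES.exactK₂ R hS i y).mp (Subsingleton.elim _ _)
      rw [Subsingleton.elim z 0, map_zero]
  refine ⟨hfin, ?_⟩
  let a : ℕ → ℤ := fun i => (Models.lengthH R X S.X₁ i : ℤ)
  let b : ℕ → ℤ := fun i => (Models.lengthH R X S.X₂ i : ℤ)
  let c : ℕ → ℤ := fun i => (Models.lengthH R X S.X₃ i : ℤ)
  let δ : ℕ → ℤ := fun i => ((rd i).toNat : ℤ)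
  have hlast : δ d = 0 := by
    haveI := h₁.2 (d + 1) (Nat.lt_succ_self d)
    have : rd d = 0 := Module.length_eq_zero_iff.mpr inferInstance
    simp only [δ, this, ENat.toNat_zero, Nat.cast_zero]
  have hsum := sum_alt_telescope a b c δ (by
      simp only [a, b, c, δ]
      unfold Models.lengthH
      rw [hA0, hB, hC, ENat.toNat_add (hrf 0) (hrg 0).1, ENat.toNat_add (hrg 0).1 (hrg 0).2]
      push_cast; ring) (fun n => by
      simp only [a, b, c, δ]
      unfold Models.lengthH
      rw [hA, hB, hC, ENat.toNat_add (hrf (n + 1)) (hrg (n + 1)).1,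
        ENat.toNat_add (hrg (n + 1)).1 (hrg (n + 1)).2, ENat.toNat_add (hrg n).2 (hrf (n + 1))]
      push_cast; ring) d
  rw [hlast, mul_zero, neg_zero] at hsum
  simp only [mul_sub, Finset.sum_sub_distrib] at hsum
  show ∑ i ∈ Finset.range (d + 1), (-1 : ℤ) ^ i * b i =
    ∑ i ∈ Finset.range (d + 1), (-1 : ℤ) ^ i * a i + ∑ i ∈ Finset.range (d + 1), (-1 : ℤ) ^ i * c i
  linarith

/-- The Euler characteristic of the closed fibre is that of the generic fibre. -/
theorem chiLen_specialFibre [IsProper X.hom] [Flat X.hom]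
    (hS : FinLen R X d (_root_.ClSub.quotMod (Models.specialFibreIdeal R X))) {C : Scheme.{u}}
    [C.Over (Spec (CommRingCat.of (FractionRing R)))] {g : C ⟶ X.left}
    (hg : IsPullback g (C ↘ Spec (CommRingCat.of (FractionRing R))) X.hom
      (Spec.map (CommRingCat.ofHom (algebraMap R (FractionRing R))))) :
    chiLen R X d (_root_.ClSub.quotMod (Models.specialFibreIdeal R X)) =
      Curv2.euler (FractionRing R) C (Coh.structureModule C) := by
  obtain ⟨π, hπ⟩ := IsDiscreteValuationRing.exists_irreducible R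
  obtain ⟨w, hseq⟩ := FlatSeq.flatSeq X hπ
  haveI : IsProper (X.left ↘ Spec (CommRingCat.of R)) := ‹IsProper X.hom›
  let O := Coh.structureModule X.left
  let σ := CurveBundle.EndAlg.scal O (Coh.toGlobal X.hom π)
  let q := _root_.ClSub.toSubscheme (Models.specialFibreIdeal R X)
  haveI hfin : ∀ i, Module.Finite R (Coh.HH X.left O i) :=
    fun i => Groth.Agent.S0002.result R X.left _ (Snapper.Twist.isCoh_structureModule _) i
  have hσ : ∀ i, Curves.LES.mapK R σ i = EulerAlg.mulπ π (Coh.HH X.left O i) :=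
    fun i => LinearMap.ext fun _ => rfl
  have e₁ := fun i => Curves.LES.exactK₂ R hseq i
  have e₂ := fun i => Curves.LES.exactK₃ R hseq i (i + 1) rfl
  have e₃ := fun i => Curves.LES.exactK₁ R hseq i (i + 1) rfl
  dsimp only at e₁ e₂ e₃
  have hvan : ∀ i, d < i → Subsingleton (Coh.HH X.left O i) := by
    intro i hi
    haveI := hS.2 i hi
    have hsurj : Function.Surjective (EulerAlg.mulπ π (Coh.HH X.left O i)) := fun x => by
      rw [← hσ]
      exact (e₁ i x).mp (Subsingleton.elim _ _)
    refine subsingleton_of_forall_eq 0 fun x => ?_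
    have : (⊤ : Submodule R (Coh.HH X.left O i)) = ⊥ :=
      Submodule.eq_bot_of_le_smul_of_le_jacobson_bot (maximalIdeal R) ⊤ Module.Finite.fg_top
        (fun y _ => by
          obtain ⟨z, rfl⟩ := hsurj y
          exact Submodule.smul_mem_smul
            (hπ.maximalIdeal_eq.ge (_root_.Ideal.mem_span_singleton_self π)) trivial)
        (IsLocalRing.maximalIdeal_le_jacobson _)
    exact (Submodule.mem_bot R).mp (this ▸ Submodule.mem_top)
  let k : ℕ → ℕ∞ := fun i => Module.length R (LinearMap.ker (EulerAlg.mulπ π (Coh.HH X.left O i)))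
  let r : ℕ → ℕ := fun i => Module.finrank (FractionRing R) (Coh.HH C (Coh.structureModule C) i)
  have hrk : ∀ i, Module.finrank (FractionRing R)
      (TensorProduct R (FractionRing R) (Coh.HH X.left O i)) = r i := by
    intro i
    haveI : CompactSpace X.left := (quasiCompact_iff_compactSpace X.hom).mp inferInstance
    haveI : QuasiSeparatedSpace X.left := (quasiSeparated_iff_quasiSeparatedSpace X.hom).mp inferInstance
    haveI := TensorMod.QCohInv.isQCoh_structureModule X.left
    obtain ⟨e⟩ := ZarCoh.FlatBC.Equiv.nonempty_linearEquiv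
      (X := X.left) (A := R) (B := FractionRing R) (g' := g) (M := O) hg i
    exact (e.trans (Curves.LES.isoK (FractionRing R) (PicLoc.pullbackStructureIso g) i)).finrank_eq
  have hk : ∀ i, k i ≠ ⊤ := fun i => (EulerAlg.defect hπ _).1
  have hQ : ∀ i, Models.lengthH R X (_root_.ClSub.quotMod (Models.specialFibreIdeal R X)) i =
      (k i).toNat + r i + (k (i + 1)).toNat := by
    intro i
    have h := LenEuler.length_eq_range_add (e₂ i)
    have l1 : Module.length R (LinearMap.range (Curves.LES.mapK R q i)) = k i + (r i : ℕ∞) := by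
      rw [← (LinearMap.quotKerEquivRange _).length_eq,
        ((Submodule.quotEquivOfEq _ _ ((LinearMap.exact_iff.mp (e₁ i)).trans (by rw [hσ])))).length_eq,
        (EulerAlg.defect hπ _).2, hrk i]
    have l2 : Module.length R (LinearMap.range (Curves.LES.δK R hseq i (i + 1) rfl)) = k (i + 1) :=
      (LinearEquiv.ofEq _ _ ((LinearMap.exact_iff.mp (e₃ i)).symm.trans (by rw [hσ]))).length_eq
    rw [l1, l2] at h
    unfold Models.lengthH
    rw [h, ENat.toNat_add (by exact WithTop.add_ne_top.mpr ⟨hk i, ENat.natCast_ne_top (r i)⟩) (hk (i + 1)),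
      ENat.toNat_add (hk i) (ENat.natCast_ne_top (r i)), ENat.toNat_natCast]
  have hk0 : k 0 = 0 := by
    haveI := hseq.mono_f
    have hinj : Function.Injective (Curves.LES.mapK R σ 0) :=
      Curves.LES.mapK_injective_of_mono R σ
    rw [hσ] at hinj
    show Module.length R (LinearMap.ker _) = 0
    rw [LinearMap.ker_eq_bot.mpr hinj, Module.length_eq_zero_iff]
    infer_instance
  have hkd : k (d + 1) = 0 := by
    haveI := hvan (d + 1) (Nat.lt_succ_self d)
    exact Module.length_eq_zero_iff.mpr inferInstance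
  have hr : ∀ i, d < i → r i = 0 := fun i hi => by
    haveI := hvan i hi
    rw [← hrk i]
    exact Module.finrank_zero_of_subsingleton
  have key : ∀ n, ∑ i ∈ Finset.range (n + 1), (-1 : ℤ) ^ i *
      ((Models.lengthH R X (_root_.ClSub.quotMod (Models.specialFibreIdeal R X)) i : ℤ) - r i) =
        (-1 : ℤ) ^ n * ((k (n + 1)).toNat : ℤ) := by
    intro n
    induction n with
    | zero => simp [hQ, hk0]
    | succ n ih => rw [Finset.sum_range_succ, ih, hQ, pow_succ]; push_cast; ring
  have hd := key d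
  rw [hkd] at hd
  simp only [ENat.toNat_zero, Nat.cast_zero, mul_zero, mul_sub, Finset.sum_sub_distrib, sub_eq_zero] at hd
  unfold chiLen Curv2.euler
  rw [hd, finsum_eq_sum_of_support_subset _ (s := Finset.range (d + 1)) (fun i hi => by
    rw [Finset.coe_range, Set.mem_Iio]
    by_contra hcon
    exact hi (by
      show (-1 : ℤ) ^ i * (r i : ℤ) = 0
      rw [hr i (by omega), Nat.cast_zero, mul_zero]))]

end

end Groth.Agent.H21.EulerDvd
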