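import Groth.Agent.H21.EulerDvd.Len
import Groth.Agent.Lib.ModelFibre.SmoothModel
import Groth.Agent.Lib.ModelFibre.Inter
import Groth.Agent.Lib.ModelFibre.EulerStep
import Groth.Agent.Lib.ModelFibre.PicTower
import Groth.Agent.Lib.SurfInt.ColonSeq
import Groth.Agent.Lib.SurfInt.H2Vanish
import Groth.Agent.Lib.Snapper.Poly
import Groth.Agent.Lib.Snapper.Finite
import Groth.Agent.Lib.Curves.GlobalSections
import Groth.Agent.Lib.ZarCoh.Linear
import Groth.Agent.H97.FinDim

/-!
# `m ∣ χ` for a special fibre divisible by `m`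
-/

set_option autoImplicit false
set_option linter.style.haveILetI false

universe u

open CategoryTheory Limits AlgebraicGeometry IsLocalRing

namespace Groth.Agent.H21.EulerDvd

open Groth.Agent.Lib Groth.Agent.Lib.TensorMod.Basic Groth.Agent.Lib.ModelFibre

noncomputable section

/-- A periodic function given by a polynomial is constant. -/
theorem constant_of_periodic (P : MvPolynomial (Fin 1) ℚ) (f : ℕ → ℤ) (m : ℕ) (hm : 1 ≤ m)
    (hf : ∀ j : ℕ, (f j : ℚ) = MvPolynomial.eval (fun _ => (j : ℚ)) P)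
    (hper : ∀ j, f (j + m) = f j) (j : ℕ) : f j = f 0 := by
  let Q : Polynomial ℚ := MvPolynomial.eval₂ Polynomial.C (fun _ => Polynomial.X) P
  have hQ : ∀ x : ℚ, Q.eval x = MvPolynomial.eval (fun _ => x) P := by
    intro x
    simp only [Q]
    clear hf Q
    induction P using MvPolynomial.induction_on <;> simp_all
  have hmul : ∀ q, f (m * q) = f 0 := by
    intro q
    induction q with
    | zero => rw [mul_zero]
    | succ q ih => rw [Nat.mul_succ, hper, ih]
  have hz : Q - Polynomial.C (f 0 : ℚ) = 0 := by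
    refine Polynomial.eq_zero_of_infinite_isRoot _ (Set.Infinite.mono ?_
      (Set.infinite_range_of_injective (f := fun q : ℕ => ((m * q : ℕ) : ℚ)) fun a b h => ?_))
    · rintro _ ⟨q, rfl⟩
      show (Q - Polynomial.C (f 0 : ℚ)).eval ((m * q : ℕ) : ℚ) = 0
      rw [Polynomial.eval_sub, Polynomial.eval_C, hQ, ← hf, hmul, sub_self]
    · exact Nat.eq_of_mul_eq_mul_left (by omega) (Nat.cast_injective h)
  have h := hf j
  rw [← hQ, sub_eq_zero.mp hz, Polynomial.eval_C] at h
  exact_mod_cast h

section Closed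

variable {R : Type u} [CommRing R] [IsDomain R] [IsDiscreteValuationRing R]
  {X : Over (Spec (CommRingCat.of R))} {D : Scheme.{u}}
  [D.Over (Spec (CommRingCat.of (ResidueField R)))]
  [IsProper (D ↘ Spec (CommRingCat.of (ResidueField R)))] {d : ℕ}

/-- Direct images of coherent modules from the closed fibre. -/
theorem finLen_push (ι : D ⟶ X.left) [IsClosedImmersion ι]
    (hw : ι ≫ X.hom = (D ↘ Spec (CommRingCat.of (ResidueField R))) ≫
      Spec.map (CommRingCat.ofHom (residue R)))
    (hd : topologicalKrullDim D ≤ d) (M : D.Modules) (hM : Coh.IsCoh M) :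
    FinLen R X d ((Coh.push ι).obj M) ∧
      chiLen R X d ((Coh.push ι).obj M) = FGA.eulerCharLE (ResidueField R) D M d := by
  haveI : M.IsQuasicoherent := hM.1
  haveI := Curves.GlobalSections.isNoetherian_of_proper (ResidueField R) D
  have hfin := Snapper.Finite.cohFinite (ResidueField R) D M hM
  have hlen : ∀ n, Module.length R (Coh.HH X.left ((Coh.push ι).obj M) n) =
      (Module.finrank (ResidueField R) (Coh.HH D M n) : ℕ∞) := by
    intro n
    haveI := hfin n
    letI : D.Over (Spec (CommRingCat.of R)) := ⟨ι ≫ X.hom⟩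
    rw [(ZarCoh.Linear.affineLinearEquiv (A := R) ι rfl M n).length_eq]
    haveI : IsScalarTower R (ResidueField R) (Coh.HH D M n) := by
      refine IsScalarTower.of_algebraMap_smul fun a x => ?_
      show Coh.toGlobal (D ↘ Spec (CommRingCat.of (ResidueField R))) (residue R a) • x =
        Coh.toGlobal (ι ≫ X.hom) a • x
      congr 1
      rw [hw]
      exact (congrArg (D ↘ Spec (CommRingCat.of (ResidueField R))).appTop
        (congr($(Scheme.ΓSpecIso_inv_naturality (CommRingCat.ofHom (residue R))) a)))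
    rw [Module.length_eq_of_surjective (R := ResidueField R) (S := R) residue_surjective,
      Module.length_eq_finrank]
  refine ⟨⟨fun i => by rw [hlen]; exact ENat.natCast_ne_top _, fun i hi => ?_⟩, ?_⟩
  · letI : D.Over (Spec (CommRingCat.of R)) := ⟨ι ≫ X.hom⟩
    haveI := Snapper.Chi.subsingleton_HH_of_lt hd M hi
    exact (ZarCoh.Linear.affineLinearEquiv (A := R) ι rfl M i).toEquiv.subsingleton
  · refine Finset.sum_congr rfl fun i _ => ?_
    unfold Models.lengthH
    rw [hlen, ENat.toNat_natCast]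

end Closed

variable {R : Type u} [CommRing R] [IsDomain R] [IsDiscreteValuationRing R]
  (X : Over (Spec (CommRingCat.of R))) [IsProper X.hom] [Flat X.hom]
  (I : X.left.IdealSheafData) (hI : BlowUp.IsEffCartierIdeal I) (m : ℕ) (hm : 1 ≤ m)
  (hIm : I ^ m = Models.specialFibreIdeal R X)

include hI hm hIm

/-- `m` divides the Euler characteristic of the generic fibre. -/
theorem dvd_euler {C : Scheme.{u}} [C.Over (Spec (CommRingCat.of (FractionRing R)))] {g : C ⟶ X.left}
    (hg : IsPullback g (C ↘ Spec (CommRingCat.of (FractionRing R))) X.hom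
      (Spec.map (CommRingCat.ofHom (algebraMap R (FractionRing R))))) :
    (m : ℤ) ∣ Curv2.euler (FractionRing R) C (Coh.structureModule C) := by
  let κ := ResidueField R
  haveI : IsClosedImmersion (Spec.map (CommRingCat.ofHom (residue R))) :=
    IsClosedImmersion.spec_of_surjective _ residue_surjective
  have hle : Models.specialFibreIdeal R X ≤ I := by
    rw [← hIm]
    refine Scheme.IdealSheafData.le_def.mpr fun U => ?_
    rw [Scheme.IdealSheafData.ideal_pow, Pi.pow_apply]
    exact _root_.Ideal.pow_le_self (by omega)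
  have hker : (Spec.map (CommRingCat.ofHom (residue R))).ker ≤ (I.subschemeι ≫ X.hom).ker := by
    rw [← Scheme.IdealSheafData.map_ker, Scheme.IdealSheafData.ker_subschemeι]
    refine Scheme.IdealSheafData.le_map_iff_comap_le.mpr ?_
    refine le_of_eq_of_le ?_ hle
    show _ = Models.specialFibreIdeal R X
    rw [Models.specialFibreIdeal, PicTower.idealSheaf_eq]
    rfl
  let sD : I.subscheme ⟶ Spec (CommRingCat.of κ) :=
    IsClosedImmersion.lift (Spec.map (CommRingCat.ofHom (residue R))) (I.subschemeι ≫ X.hom) hker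
  letI : I.subscheme.Over (Spec (CommRingCat.of κ)) := ⟨sD⟩
  have hw : I.subschemeι ≫ X.hom = (I.subscheme ↘ Spec (CommRingCat.of κ)) ≫
      Spec.map (CommRingCat.ofHom (residue R)) :=
    (IsClosedImmersion.lift_fac _ _ _).symm
  haveI : IsProper (I.subscheme ↘ Spec (CommRingCat.of κ)) := by
    haveI : IsProper ((I.subscheme ↘ Spec (CommRingCat.of κ)) ≫
        Spec.map (CommRingCat.ofHom (residue R))) := hw ▸ inferInstance
    exact IsProper.of_comp (I.subscheme ↘ Spec (CommRingCat.of κ)) (Spec.map (CommRingCat.ofHom (residue R)))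
  haveI := Curves.GlobalSections.isNoetherian_of_proper κ I.subscheme
  obtain ⟨d, hd⟩ := H97.FinDim.exists_dim_le (I.subscheme ↘ Spec (CommRingCat.of κ))
  let ι := I.subschemeι
  let P : ℕ → I.subscheme.Modules := fun j =>
    (Scheme.Modules.pullback ι).obj (_root_.ClSub.idealMod (I ^ j))
  let L := (Scheme.Modules.pullback ι).obj (_root_.ClSub.idealMod I)
  have hEC : ∀ j, BlowUp.IsEffCartierIdeal (I ^ j) := fun j => Ideal.EffCartier.isEffCartier_pow hI j
  have hinv : ∀ j, PicF.IsInvertible (_root_.ClSub.idealMod (I ^ j)) :=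
    fun j => ClSub.Cartier.isInvertible_idealMod (hEC j)
  have hPinv : ∀ j, PicF.IsInvertible (P j) := fun j => PicLoc.isInvertible_pullback ι (hinv j)
  let χ : ℕ → ℤ := fun j => FGA.eulerCharLE κ I.subscheme (P j) d
  -- the filtration
  have hfilt : ∀ j, FinLen R X d (_root_.ClSub.quotMod (I ^ j)) ∧
      chiLen R X d (_root_.ClSub.quotMod (I ^ j)) = ∑ i ∈ Finset.range j, χ i := by
    intro j
    induction j with
    | zero =>
      rw [pow_zero, Finset.sum_range_zero]
      exact finLen_zero EulerStep.id_quotMod_top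
    | succ j ih =>
      obtain ⟨f, h, w, hS⟩ := SurfInt.ColonSeq.exists_colonSeq (I ^ j) I (I ^ j * I) (hinv j)
        (EulerStep.colon_mul (hEC j) _)
      have hE := Modules.DualBasis.hasDBases_of_isFinLocFree
        (TensorMod.LocFree.of_rank (TensorMod.LocFree.of_isInvertible (hinv j)))
      let e : CohB1.tensorMod (_root_.ClSub.idealMod (I ^ j)) (_root_.ClSub.quotMod I) ≅
          (Coh.push ι).obj (P j) :=
        (Modules.ProjFormula.projIso ι hE).app (Coh.structureModule I.subscheme) ≪≫
          (Coh.push ι).mapIso (rightUnit (P j))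
      obtain ⟨hMfin, hMchi⟩ := finLen_push ι hw hd (P j) (Ample.GG.isCoh_of_isInvertible (hPinv j))
      obtain ⟨hKfin, hKchi⟩ := hMfin.of_iso e.symm
      have hsup : I ^ j ⊔ I ^ j * I = I ^ j := by
        refine sup_eq_left.mpr ?_
        exact Scheme.IdealSheafData.le_def.mpr fun U => by
          rw [Scheme.IdealSheafData.ideal_mul, Pi.mul_apply]; exact _root_.Ideal.mul_le_left
      have h₃ : FinLen R X d (_root_.ClSub.quotMod (I ^ j ⊔ I ^ j * I)) := by rw [hsup]; exact ih.1
      obtain ⟨hfin', hchi⟩ := FinLen.of_shortExact hS hKfin h₃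
      replace hchi : chiLen R X d (_root_.ClSub.quotMod (I ^ j * I)) =
          chiLen R X d (CohB1.tensorMod (_root_.ClSub.idealMod (I ^ j)) (_root_.ClSub.quotMod I)) +
            chiLen R X d (_root_.ClSub.quotMod (I ^ j ⊔ I ^ j * I)) := hchi
      rw [hsup, hKchi, hMchi, ih.2] at hchi
      rw [pow_succ, Finset.sum_range_succ, hchi]
      exact ⟨hfin', add_comm _ _⟩
  -- periodicity
  obtain ⟨π, hπ⟩ := IsDiscreteValuationRing.exists_irreducible R
  obtain ⟨eπ⟩ : Nonempty (P m ≅ Coh.structureModule I.subscheme) := by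
    show Nonempty ((Scheme.Modules.pullback ι).obj (_root_.ClSub.idealMod (I ^ m)) ≅ _)
    rw [hIm]
    exact SmoothModel.pullback_idealMod_trivial ι (Models.specialFibreIdeal R X)
      (RegularExt.glob X.hom π)
      (fun z a b hab => Chart.isSMulRegular_baseHom X.hom z (IsRegular.of_ne_zero hπ.ne_zero) hab)
      ⊤ (fun _ => trivial) fun z _ => FlatSeq.stalk_specialFibreIdeal X hπ z
  have hadd : ∀ a b, Nonempty (CohB1.tensorMod (P a) (P b) ≅ P (a + b)) := by
    intro a b
    obtain ⟨e⟩ := SurfInt.Mul.nonempty_idealMod_mul (hEC a) (I ^ b)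
    exact ⟨(TensorMod.Pullback.pullbackTensorIso ι _ _).symm ≪≫ (Scheme.Modules.pullback ι).mapIso e ≪≫
      eqToIso (by rw [← pow_add])⟩
  have hper : ∀ j, χ (j + m) = χ j := by
    intro j
    obtain ⟨e⟩ := hadd j m
    exact Snapper.Chi.eulerCharLE_of_iso (e.symm ≪≫ tensorIso (Iso.refl _) eπ ≪≫ rightUnit (P j)) d
  -- polynomiality
  obtain ⟨e0⟩ : Nonempty (P 0 ≅ Coh.structureModule I.subscheme) := by
    obtain ⟨e⟩ := SurfInt.H2Vanish.nonempty_idealMod_top (X := X.left)
    exact ⟨(Scheme.Modules.pullback ι).mapIso (eqToIso (by rw [pow_zero]; rfl) ≪≫ e) ≪≫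
      PicLoc.pullbackStructureIso ι⟩
  have hpow : ∀ j, Nonempty (CohB1.tensorPow L j ≅ P j) := by
    intro j
    induction j with
    | zero => exact ⟨e0.symm⟩
    | succ j ih =>
      obtain ⟨a⟩ := ih
      obtain ⟨b⟩ := hadd j 1
      exact ⟨tensorIso a ((Scheme.Modules.pullback ι).mapIso (eqToIso (by rw [pow_one]))) ≪≫ b⟩
  have hL : PicF.IsInvertible L := PicLoc.isInvertible_pullback ι (ClSub.Cartier.isInvertible_idealMod hI)
  obtain ⟨Q, -, hQ⟩ := Snapper.Poly.exists_poly (Snapper.Finite.cohFinite κ I.subscheme) hd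
    (F := Coh.structureModule I.subscheme) (Snapper.Twist.isCoh_structureModule _) d
    ((topologicalKrullDim_subspace_le _ _).trans hd) 1 (fun _ => L) (fun _ => hL) [] (by simp)
  have hf : ∀ j : ℕ, (χ j : ℚ) = MvPolynomial.eval (fun _ => (j : ℚ)) Q := by
    intro j
    rw [← hQ (fun _ => j)]
    obtain ⟨a⟩ := hpow j
    refine congrArg (fun z : ℤ => (z : ℚ)) (Snapper.Chi.eulerCharLE_of_iso ?_ d)
    exact a.symm ≪≫ (rightUnit _).symm ≪≫ (rightUnit _).symm ≪≫
      tensorIso (eqToIso (by simp [FGA.multiTwist, FGA.tensorList, List.finRange_succ])) (Iso.refl _)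
  have hconst := constant_of_periodic Q χ m hm hf hper
  have hm' := hfilt m
  rw [hIm] at hm'
  rw [← chiLen_specialFibre hm'.1 hg, hm'.2, Finset.sum_congr rfl fun i _ => hconst i,
    Finset.sum_const, Finset.card_range, nsmul_eq_mul]
  exact dvd_mul_right _ _

end

end Groth.Agent.H21.EulerDvd
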