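import Groth.Prelude.Def_ModelsG
import Groth.Agent.Lib.ModelFibre.StalkIdeal
import Groth.Agent.Lib.ModelFibre.RegularExt
import Groth.Agent.Lib.ModelFibre.FlatSeq
import Groth.Agent.Lib.CartierDescent.Stalk
import Groth.Agent.Lib.Regular.UFD
import Mathlib.RingTheory.OrderOfVanishing.Basic
import Mathlib.RingTheory.Polynomial.RationalRoot

/-!
# Roots of locally principal ideals on schemes with factorial local rings
-/

set_option autoImplicit false
set_option linter.style.haveILetI false

universe u

open CategoryTheory Limits AlgebraicGeometry IsLocalRing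

namespace Groth.Agent.H21.EulerDvd

open Groth.Agent.Lib Groth.Agent.Lib.Ideal.Prime Groth.Agent.Lib.CDivInt.Factorial
  Groth.Agent.Lib.ModelFibre

noncomputable section

/-- An element all whose multiplicities are divisible by `n` is, up to a unit, an `n`-th power. -/
theorem exists_associated_pow {O : Type u} [CommRing O] [IsDomain O] [UniqueFactorizationMonoid O]
    (n : ℕ) (hn : 1 ≤ n) : ∀ g : O, g ≠ 0 →
      (∀ (a : O) (k : ℕ), Prime a → a ^ k ∣ g → ¬ a ^ (k + 1) ∣ g → n ∣ k) →
        ∃ c : O, Associated g (c ^ n) := by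
  intro g
  induction g using WellFounded.induction (IsWellFounded.wf (r := DvdNotUnit (α := O))) with
  | _ g ih =>
    intro hg0 hg
    by_cases hu : IsUnit g
    · exact ⟨1, by rw [one_pow]; exact associated_one_iff_isUnit.2 hu⟩
    obtain ⟨a, ha, hag⟩ := WfDvdMonoid.exists_irreducible_factor hu hg0
    have hpa : Prime a := UniqueFactorizationMonoid.irreducible_iff_prime.1 ha
    obtain ⟨k, c, hac, rfl⟩ := WfDvdMonoid.max_power_factor hg0 ha
    have hc0 : c ≠ 0 := right_ne_zero_of_mul hg0
    have hnd : ¬ a ^ (k + 1) ∣ a ^ k * c := by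
      rw [pow_succ, mul_dvd_mul_iff_left (pow_ne_zero _ ha.ne_zero)]
      exact hac
    have hk : n ∣ k := hg a k hpa (dvd_mul_right _ _) hnd
    have hk0 : k ≠ 0 := by
      rintro rfl
      simp only [pow_zero, one_mul] at hag
      exact hac hag
    have hlt : DvdNotUnit c (a ^ k * c) :=
      ⟨hc0, a ^ k, fun h => ha.not_isUnit ((isUnit_pow_iff hk0).1 h), mul_comm _ _⟩
    obtain ⟨c', hc'⟩ := ih c hlt hc0 fun b j hb hbj hbj' => by
      by_cases hba : b ∣ a
      · have hass : Associated b a := hb.associated_of_dvd hpa hba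
        rcases Nat.eq_zero_or_pos j with rfl | hj
        · exact dvd_zero n
        · exact absurd ((hass.dvd_iff_dvd_left).1 ((dvd_pow_self b hj.ne').trans hbj)) hac
      · have hbk : ¬ b ∣ a ^ k := fun h => hba (hb.dvd_of_dvd_pow h)
        exact hg b j hb (hbj.trans (dvd_mul_left _ _)) fun h =>
          hbj' (hb.pow_dvd_of_dvd_mul_left _ hbk h)
    obtain ⟨q, rfl⟩ := hk
    refine ⟨a ^ q * c', ?_⟩
    rw [mul_pow, ← pow_mul, mul_comm q n]
    exact hc'.mul_left _

variable {X : Scheme.{u}}

/-- The ideal sheaf spanned by the sections whose `n`-th power lies in `J`. -/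
def rootSheaf (J : X.IdealSheafData) (n : ℕ) (hn : 1 ≤ n) : X.IdealSheafData where
  ideal U := _root_.Ideal.span {a | a ^ n ∈ J.ideal U}
  map_ideal_basicOpen U f := by
    refine le_antisymm ?_ (_root_.Ideal.span_le.2 ?_)
    · rw [_root_.Ideal.map_span, _root_.Ideal.span_le]
      rintro _ ⟨a, ha, rfl⟩
      refine _root_.Ideal.subset_span ?_
      show ((X.presheaf.map (homOfLE <| X.basicOpen_le f).op).hom a) ^ n ∈ J.ideal (X.affineBasicOpen f)
      rw [← map_pow, ← J.map_ideal_basicOpen U f]
      exact _root_.Ideal.mem_map_of_mem _ ha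
    · intro b hb
      replace hb : b ^ n ∈ J.ideal (X.affineBasicOpen f) := hb
      haveI := U.2.isLocalization_basicOpen f
      let φ := algebraMap Γ(X, U.1) Γ(X, X.basicOpen f)
      obtain ⟨⟨a, s⟩, has⟩ := IsLocalization.surj (Submonoid.powers f)
        (show Γ(X, X.basicOpen f) from b)
      have h1 : φ (a ^ n) ∈ (J.ideal U).map φ := by
        have : φ (a ^ n) = (show Γ(X, X.basicOpen f) from b) ^ n * φ (s ^ n : Γ(X, U.1)) := by
          rw [map_pow, map_pow, ← mul_pow]
          exact congrArg (· ^ n) has.symm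
        rw [this]
        refine _root_.Ideal.mul_mem_right _ _ ?_
        rw [← J.map_ideal_basicOpen U f] at hb
        exact hb
      obtain ⟨t, htM, hta⟩ := (IsLocalization.algebraMap_mem_map_algebraMap_iff
        (Submonoid.powers f) Γ(X, X.basicOpen f) (J.ideal U) (a ^ n)).1 h1
      have hta' : (t * a) ^ n ∈ J.ideal U := by
        obtain ⟨d, hd⟩ : ∃ d, (t * a) ^ n = d * (t * a ^ n) := by
          obtain ⟨m, rfl⟩ : ∃ m, n = m + 1 := ⟨n - 1, by omega⟩
          exact ⟨t ^ m, by ring⟩
        rw [hd]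
        exact _root_.Ideal.mul_mem_left _ d hta
      have h2 : φ (t * a) ∈ (_root_.Ideal.span {a | a ^ n ∈ J.ideal U}).map φ :=
        _root_.Ideal.mem_map_of_mem _ (_root_.Ideal.subset_span hta')
      have hunit : IsUnit (φ t * φ (s : Γ(X, U.1))) :=
        (IsLocalization.map_units Γ(X, X.basicOpen f) ⟨t, htM⟩).mul (IsLocalization.map_units Γ(X, X.basicOpen f) s)
      have h3 : (φ t * φ (s : Γ(X, U.1))) * (show Γ(X, X.basicOpen f) from b) ∈
          (_root_.Ideal.span {a | a ^ n ∈ J.ideal U}).map φ := by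
        rw [mul_assoc, mul_comm (φ (s : Γ(X, U.1))), has, ← map_mul]
        exact h2
      exact (_root_.Ideal.unit_mul_mem_iff_mem _ hunit).1 h3

/-- The stalk of the root of an ideal with stalk `(c ^ n)` is `(c)`. -/
theorem stalkIdeal_rootSheaf (J : X.IdealSheafData) (n : ℕ) (hn : 1 ≤ n) (x : X)
    [IsDomain (X.presheaf.stalk x)] [UniqueFactorizationMonoid (X.presheaf.stalk x)]
    {c : X.presheaf.stalk x} (h : stalkIdeal J x = _root_.Ideal.span {c ^ n}) :
    stalkIdeal (rootSheaf J n hn) x = _root_.Ideal.span {c} := by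
  obtain ⟨U, hU, hxU, -⟩ := exists_isAffineOpen_mem_and_subset (show x ∈ (⊤ : X.Opens) from trivial)
  letI := TopCat.Presheaf.algebra_section_stalk X.presheaf (⟨x, hxU⟩ : U)
  haveI := hU.isLocalization_stalk ⟨x, hxU⟩
  set M := (hU.primeIdealOf ⟨x, hxU⟩).asIdeal.primeCompl
  rw [stalkIdeal_eq J ⟨U, hU⟩ hxU] at h
  rw [stalkIdeal_eq _ ⟨U, hU⟩ hxU]
  let φ := algebraMap Γ(X, U) (X.presheaf.stalk x)
  show (_root_.Ideal.span {a | a ^ n ∈ J.ideal ⟨U, hU⟩}).map φ = _
  replace h : (J.ideal ⟨U, hU⟩).map φ = _root_.Ideal.span {c ^ n} := h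
  refine le_antisymm ?_ ((_root_.Ideal.span_singleton_le_iff_mem _).2 ?_)
  · rw [_root_.Ideal.map_span, _root_.Ideal.span_le]
    rintro _ ⟨a, ha, rfl⟩
    have h1 : φ (a ^ n) ∈ _root_.Ideal.span {c ^ n} := h ▸ _root_.Ideal.mem_map_of_mem _ ha
    rw [map_pow, _root_.Ideal.mem_span_singleton, IsIntegrallyClosed.pow_dvd_pow_iff (by omega)] at h1
    exact _root_.Ideal.mem_span_singleton.2 h1
  · obtain ⟨⟨a, s⟩, has⟩ := IsLocalization.surj M c
    have h1 : φ (a ^ n) ∈ (J.ideal ⟨U, hU⟩).map φ := by
      rw [h, map_pow, show φ a = c * φ s from has.symm, mul_pow]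
      exact _root_.Ideal.mul_mem_right _ _ (_root_.Ideal.mem_span_singleton_self _)
    obtain ⟨t, htM, hta⟩ := (IsLocalization.algebraMap_mem_map_algebraMap_iff
      M (X.presheaf.stalk x) (J.ideal ⟨U, hU⟩) (a ^ n)).1 h1
    have hta' : (t * a) ^ n ∈ J.ideal ⟨U, hU⟩ := by
      obtain ⟨m, rfl⟩ : ∃ m, n = m + 1 := ⟨n - 1, by omega⟩
      rw [show (t * a) ^ (m + 1) = t ^ m * (t * a ^ (m + 1)) by ring]
      exact _root_.Ideal.mul_mem_left _ _ hta
    have hunit : IsUnit (φ t * φ s) :=
      (IsLocalization.map_units (X.presheaf.stalk x) ⟨t, htM⟩).mul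
        (IsLocalization.map_units (X.presheaf.stalk x) s)
    refine (_root_.Ideal.unit_mul_mem_iff_mem _ hunit).1 ?_
    rw [mul_assoc, mul_comm (φ s), has, ← map_mul]
    exact _root_.Ideal.mem_map_of_mem _ (_root_.Ideal.subset_span hta')

variable {R : Type u} [CommRing R] [IsDomain R] [IsDiscreteValuationRing R]

theorem stalkSpecializes_baseHom (p : X ⟶ Spec (CommRingCat.of R)) {y x : X} (h : y ⤳ x) (r : R) :
    X.presheaf.stalkSpecializes h (Stalk.baseHom p x r) = Stalk.baseHom p y r :=
  TopCat.Presheaf.germ_stalkSpecializes_apply X.presheaf (U := ⊤) trivial h _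

/-- In a scheme over a discrete valuation ring the points where a uniformizer is not invertible. -/
theorem not_isUnit_baseHom_iff (p : X ⟶ Spec (CommRingCat.of R)) {π : R} (hπ : Irreducible π) (y : X) :
    ¬ IsUnit (Stalk.baseHom p y π) ↔ p y = IsLocalRing.closedPoint R := by
  rw [RegularExt.isUnit_baseHom_iff, RegularExt.basicOpen_toGlobal]
  show ¬ (π ∉ (p y).asIdeal) ↔ _
  rw [not_not]
  refine ⟨fun h => PrimeSpectrum.ext (le_antisymm (IsLocalRing.le_maximalIdeal (p y).2.ne_top) ?_), fun h => ?_⟩
  · show IsLocalRing.maximalIdeal R ≤ _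
    rw [hπ.maximalIdeal_eq]
    exact (_root_.Ideal.span_singleton_le_iff_mem _).2 h
  · rw [h]; exact hπ.maximalIdeal_eq.ge (_root_.Ideal.mem_span_singleton_self π)

/-- If `n` divides the multiplicity of the special fibre at each of its maximal points, the special
fibre is `n` times an effective Cartier divisor. -/
theorem exists_effCartier_pow_eq (p : X ⟶ Spec (CommRingCat.of R)) [Flat p] [IsLocallyNoetherian X]
    (hreg : ∀ y : X, IsRegularLocalRing (X.presheaf.stalk y)) {π : R} (hπ : Irreducible π)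
    (n : ℕ) (hn : 1 ≤ n)
    (hmult : ∀ (y : X), p y = IsLocalRing.closedPoint R →
      (∀ z : X, p z = IsLocalRing.closedPoint R → z ⤳ y → z = y) →
      ∀ k : ℕ, Ring.ord (X.presheaf.stalk y) (Stalk.baseHom p y π) = k → n ∣ k) :
    ∃ I : X.IdealSheafData, BlowUp.IsEffCartierIdeal I ∧
      I ^ n = Models.specialFibreIdeal R (Over.mk p) := by
  haveI : Flat (Over.mk p).hom := ‹Flat p›
  have hdom : ∀ x : X, IsDomain (X.presheaf.stalk x) := fun x =>
    haveI := hreg x
    Regular.Quotient.isDomain _
  have hufd : ∀ x : X, UniqueFactorizationMonoid (X.presheaf.stalk x) := fun x =>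
    haveI := hreg x
    haveI := hdom x
    Regular.UFD.uniqueFactorizationMonoid _
  have hroot : ∀ x : X, ∃ c : X.presheaf.stalk x, c ≠ 0 ∧
      stalkIdeal (Models.specialFibreIdeal R (Over.mk p)) x = _root_.Ideal.span {c ^ n} := by
    intro x
    haveI := hdom x
    haveI := hufd x
    have hg0 : Stalk.baseHom p x π ≠ 0 := fun h => by
      have hreg' := Chart.isSMulRegular_baseHom p x (IsRegular.of_ne_zero hπ.ne_zero)
      exact one_ne_zero (hreg' (a₁ := (1 : X.presheaf.stalk x)) (a₂ := 0) (by
        show Stalk.baseHom p x π • _ = Stalk.baseHom p x π • _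
        rw [h]; simp))
    obtain ⟨c, hc⟩ := exists_associated_pow n hn (Stalk.baseHom p x π) hg0 fun a k ha hak hak' => by
      rcases Nat.eq_zero_or_pos k with rfl | hk
      · exact dvd_zero n
      have hag : a ∣ Stalk.baseHom p x π := (dvd_pow_self a hk.ne').trans hak
      haveI : (_root_.Ideal.span {a}).IsPrime := (_root_.Ideal.span_singleton_prime ha.ne_zero).2 ha
      obtain ⟨y, h, hy⟩ := exists_primeOf_eq x (_root_.Ideal.span {a})
      have hmem : ∀ {z : X} (hz : z ⤳ x), p z = IsLocalRing.closedPoint R ↔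
          Stalk.baseHom p x π ∈ primeOf hz := fun {z} hz => by
        rw [← not_isUnit_baseHom_iff p hπ z, ← stalkSpecializes_baseHom p hz π]
        rfl
      have hyfib : p y = IsLocalRing.closedPoint R :=
        (hmem h).2 (hy ▸ _root_.Ideal.mem_span_singleton.2 hag)
      have hymax : ∀ z : X, p z = IsLocalRing.closedPoint R → z ⤳ y → z = y := by
        intro z hz hzy
        have hzx : z ⤳ x := hzy.trans h
        have hle : primeOf hzx ≤ primeOf h := fun t ht hu => ht (by
          have := hu.map (X.presheaf.stalkSpecializes hzy).hom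
          rw [← CommRingCat.comp_apply, TopCat.Presheaf.stalkSpecializes_comp] at this
          exact this)
        have hmz := (hmem hzx).1 hz
        obtain ⟨b, hbz, hb⟩ := _root_.Ideal.IsPrime.exists_mem_prime_of_ne_bot
          (inferInstance : (primeOf hzx).IsPrime) (fun h0 => hg0 (by rw [h0] at hmz; exact hmz))
        have hge : primeOf h ≤ primeOf hzx := by
          have hba : a ∣ b := _root_.Ideal.mem_span_singleton.1 (hy ▸ hle hbz)
          rw [hy, _root_.Ideal.span_singleton_le_iff_mem]
          obtain ⟨u, hu⟩ := ha.associated_of_dvd hb hba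
          rw [← hu] at hbz
          exact (_root_.Ideal.mul_unit_mem_iff_mem _ u.isUnit).1 hbz
        obtain ⟨U, hU, hxU, -⟩ := exists_isAffineOpen_mem_and_subset (show x ∈ (⊤ : X.Opens) from trivial)
        have hyU : y ∈ U := h.mem_open U.2 hxU
        have hzU : z ∈ U := hzx.mem_open U.2 hxU
        have e : hU.primeIdealOf ⟨z, hzU⟩ = hU.primeIdealOf ⟨y, hyU⟩ := PrimeSpectrum.ext (by
          rw [← primeOf_comap hU hzx hzU hxU, ← primeOf_comap hU h hyU hxU, le_antisymm hle hge])
        have e' := congrArg hU.fromSpec e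
        rwa [hU.fromSpec_primeIdealOf, hU.fromSpec_primeIdealOf] at e'
      refine hmult y hyfib hymax k ?_
      haveI := hdom y
      letI : Algebra (X.presheaf.stalk x) (X.presheaf.stalk y) := (X.presheaf.stalkSpecializes h).hom.toAlgebra
      haveI := CartierDescent.isLocalization_stalkSpecializes h
      have hmax : IsLocalRing.maximalIdeal (X.presheaf.stalk y) =
          _root_.Ideal.span {algebraMap (X.presheaf.stalk x) (X.presheaf.stalk y) a} := by
        rw [← IsLocalization.AtPrime.map_eq_maximalIdeal (primeOf h) (X.presheaf.stalk y), hy,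
          _root_.Ideal.map_span, Set.image_singleton]
      obtain ⟨d, hd⟩ := hak
      have hdn : d ∉ primeOf h := fun hd' => hak' (by
        rw [hy, _root_.Ideal.mem_span_singleton] at hd'
        rw [hd, pow_succ]
        exact mul_dvd_mul_left _ hd')
      have hdu : IsUnit (algebraMap (X.presheaf.stalk x) (X.presheaf.stalk y) d) :=
        IsLocalization.map_units (X.presheaf.stalk y) (⟨d, hdn⟩ : (primeOf h).primeCompl)
      have hgy : Stalk.baseHom p y π = algebraMap (X.presheaf.stalk x) (X.presheaf.stalk y) a ^ k *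
          algebraMap (X.presheaf.stalk x) (X.presheaf.stalk y) d := by
        rw [← map_pow, ← map_mul, ← hd]
        exact (stalkSpecializes_baseHom p h π).symm
      have ha0 : algebraMap (X.presheaf.stalk x) (X.presheaf.stalk y) a ≠ 0 := fun h0 =>
        ha.ne_zero ((map_eq_zero_iff _ (IsLocalization.injective (X.presheaf.stalk y)
          (primeOf h).primeCompl_le_nonZeroDivisors)).1 h0)
      rw [hgy, Ring.ord_mul_of_isUnit_right hdu, Ring.ord_pow (mem_nonZeroDivisors_of_ne_zero ha0)]
      have hord1 : Ring.ord (X.presheaf.stalk y) (algebraMap (X.presheaf.stalk x) (X.presheaf.stalk y) a) = 1 := by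
        rw [Ring.ord, Module.length_eq_one_iff, isSimpleModule_iff_isCoatom, ← hmax]
        exact _root_.Ideal.isMaximal_def.1 inferInstance
      rw [hord1, nsmul_one]
    refine ⟨c, ?_, ?_⟩
    · rintro rfl
      rw [zero_pow (by omega), associated_zero_iff_eq_zero] at hc
      exact hg0 hc
    · haveI : IsDomain ((Over.mk p).left.presheaf.stalk x) := hdom x
      rw [FlatSeq.stalk_specialFibreIdeal (Over.mk p) hπ x]
      exact _root_.Ideal.span_singleton_eq_span_singleton.2 hc
  choose c hc0 hc using hroot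
  have hst : ∀ x, stalkIdeal (rootSheaf (Models.specialFibreIdeal R (Over.mk p)) n hn) x =
      _root_.Ideal.span {c x} := fun x =>
    haveI := hdom x
    haveI := hufd x
    stalkIdeal_rootSheaf (X := X) _ n hn x (hc x)
  refine ⟨rootSheaf (Models.specialFibreIdeal R (Over.mk p)) n hn,
    StalkIdeal.isEffCartierIdeal hdom fun x => ⟨c x, hc0 x, hst x⟩, ?_⟩
  refine StalkIdeal.ext_of_stalkIdeal (X := X) fun x => ?_
  rw [StalkIdeal.stalkIdeal_pow, hst x, _root_.Ideal.span_singleton_pow]
  exact (hc x).symm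

end

end Groth.Agent.H21.EulerDvd
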